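import Groth.Agent.Lib.Cyc26.StalkLoc
import Groth.Agent.Lib.TensorMod.PullSupport
import Groth.Agent.Lib.ModM1.Pull
import Groth.Agent.Lib.FlatH4.PullFlat

/-! # Generisations lift along supports of modules flat over the base -/

set_option autoImplicit false
set_option linter.style.haveILetI false
open CategoryTheory AlgebraicGeometry
universe u

namespace Groth.Agent.GoDown12

open TensorProduct IsLocalRing

/-- Going down in the support of a module flat over a local base. -/
theorem exists_prime_over {R S N : Type u} [CommRing R] [CommRing S] [IsLocalRing R] [IsLocalRing S]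
    [Algebra R S] [IsLocalHom (algebraMap R S)] [AddCommGroup N] [Module R N] [Module S N]
    [IsScalarTower R S N] [Module.Finite S N] [Module.Flat R N] [Nontrivial N]
    (p : Ideal R) [p.IsPrime] :
    ∃ Q : PrimeSpectrum S, Q ∈ Module.support S N ∧ Q.asIdeal.comap (algebraMap R S) = p := by
  have hne : maximalIdeal R • (⊤ : Submodule R N) ≠ ⊤ := by
    intro h
    have hle : (⊤ : Submodule S N) ≤ maximalIdeal S • ⊤ := by
      intro n _
      have hn : n ∈ maximalIdeal R • (⊤ : Submodule R N) := by rw [h]; exact Submodule.mem_top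
      refine Submodule.smul_induction_on hn (fun r hr m _ => ?_) (fun _ _ => add_mem)
      rw [← algebraMap_smul S r m]
      exact Submodule.smul_mem_smul ((show Ideal.map (algebraMap R S) (maximalIdeal R) ≤ maximalIdeal S from
        ((local_hom_TFAE (algebraMap R S)).out 0 2).mp ‹IsLocalHom (algebraMap R S)›)
        (Ideal.mem_map_of_mem _ hr)) Submodule.mem_top
    have := Submodule.eq_bot_of_le_smul_of_le_jacobson_bot (maximalIdeal S) ⊤ Module.Finite.fg_top hle
      (maximalIdeal_le_jacobson _)
    exact top_ne_bot this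
  have : Module.FaithfullyFlat R N := ⟨fun m hm => by
    rw [eq_maximalIdeal hm]; exact hne⟩
  obtain ⟨z, hz⟩ := exists_ne (0 : N ⊗[R] p.ResidueField)
  let I : Ideal S := LinearMap.ker (LinearMap.toSpanSingleton S (N ⊗[R] p.ResidueField) z)
  have hI : ∀ s, s ∈ I ↔ s • z = 0 := fun _ => Iff.rfl
  have hscal' : ∀ (r : R) (y : N ⊗[R] p.ResidueField), algebraMap R S r • y = (LinearMap.lTensor N
      (LinearMap.lsmul R p.ResidueField r)) y := by
    intro r y
    rw [algebraMap_smul]
    induction y with
    | zero => simp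
    | tmul n c => simp [TensorProduct.tmul_smul]
    | add a b ha hb => simp [ha, hb]
  have hscal := fun r => hscal' r z
  let M := Submonoid.map (algebraMap R S) p.primeCompl
  have hdisj : Disjoint (I : Set S) (M : Set S) := by
    rw [Set.disjoint_left]
    rintro _ hr ⟨r, hrp, rfl⟩
    have h0 := (hI _).mp hr
    rw [algebraMap_smul] at h0
    have hne0 : algebraMap R p.ResidueField r ≠ 0 := by
      rw [Ne, Ideal.algebraMap_residueField_eq_zero]; exact hrp
    refine hz ?_
    let u : p.ResidueField →ₗ[R] p.ResidueField :=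
      LinearMap.mulLeft R (algebraMap R p.ResidueField r)⁻¹
    have hu : u.comp (LinearMap.lsmul R p.ResidueField r) = LinearMap.id := by
      ext c
      simp [u, Algebra.smul_def]
      exact inv_mul_cancel_left₀ hne0 c
    have h1 := congrArg (LinearMap.lTensor N u) (hscal r)
    rw [algebraMap_smul, h0, map_zero, ← LinearMap.comp_apply, ← LinearMap.lTensor_comp, hu,
      LinearMap.lTensor_id, LinearMap.id_apply] at h1
    exact h1.symm
  obtain ⟨Q, hQ, hIQ, hQM⟩ := Ideal.exists_le_prime_disjoint I M hdisj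
  refine ⟨⟨Q, hQ⟩, ?_, ?_⟩
  · by_contra hsupp
    rw [Module.notMem_support_iff'] at hsupp
    have hall : ∀ y : N ⊗[R] p.ResidueField, ∃ s ∉ Q, s • y = 0 := by
      intro y
      induction y with
      | zero => exact ⟨1, fun h => hQ.ne_top ((Q.eq_top_iff_one).mpr h), smul_zero _⟩
      | tmul n c =>
        obtain ⟨s, hs, hsn⟩ := hsupp n
        exact ⟨s, hs, by rw [TensorProduct.smul_tmul', hsn, TensorProduct.zero_tmul]⟩
      | add a b ha hb =>
        obtain ⟨s, hs, hsa⟩ := ha
        obtain ⟨t, ht, htb⟩ := hb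
        refine ⟨s * t, hQ.mul_notMem hs ht, ?_⟩
        rw [smul_add, mul_comm s t, mul_smul, hsa, smul_zero, zero_add, mul_comm t s, mul_smul,
          htb, smul_zero]
    obtain ⟨s, hs, hsz⟩ := hall z
    exact hs (hIQ ((hI s).mpr hsz))
  · ext r
    refine ⟨fun hr => ?_, fun hr => hIQ ((hI _).mpr ?_)⟩
    · by_contra hrp
      exact Set.disjoint_left.mp hQM hr ⟨r, hrp, rfl⟩
    · rw [hscal r]
      have : LinearMap.lsmul R p.ResidueField r = 0 := by
        ext c
        simp [Algebra.smul_def, (Ideal.algebraMap_residueField_eq_zero).mpr hr]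
      rw [this, LinearMap.lTensor_zero, LinearMap.zero_apply]

variable {X Y : Scheme.{u}}

set_option backward.isDefEq.respectTransparency false in
theorem fromSpecStalk_ker {ξ x : X} (h : ξ ⤳ x) :
    X.fromSpecStalk x ⟨RingHom.ker (Cyc.specMap x ξ h), RingHom.ker_isPrime _⟩ = ξ := by
  have h1 := congrArg (fun g => g (closedPoint (X.presheaf.stalk ξ)))
    (Scheme.SpecMap_stalkSpecializes_fromSpecStalk h)
  simp only [Scheme.Hom.comp_apply, Scheme.fromSpecStalk_closedPoint] at h1
  refine Eq.trans (congrArg (X.fromSpecStalk x) (PrimeSpectrum.ext ?_)) h1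
  ext a
  show X.residue ξ (X.presheaf.stalkSpecializes h a) = 0 ↔
    X.presheaf.stalkSpecializes h a ∈ maximalIdeal (X.presheaf.stalk ξ)
  exact IsLocalRing.residue_eq_zero_iff _

set_option backward.isDefEq.respectTransparency false in
theorem exists_generization (f : X ⟶ Y) (F : X.Modules) (hF : Coh.IsCoh F)
    (hfl : FlatMod.IsFlatOver f F) {x : X} (hx : x ∈ CohB1.support F) {w : Y} (hw : w ⤳ f x) :
    ∃ z, z ⤳ x ∧ f z = w ∧ z ∈ CohB1.support F := by
  letI := FlatMod.moduleStalkOver f F x
  letI : Algebra (Y.presheaf.stalk (f x)) (X.presheaf.stalk x) := (f.stalkMap x).hom.toAlgebra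
  haveI : IsLocalHom (algebraMap (Y.presheaf.stalk (f x)) (X.presheaf.stalk x)) :=
    inferInstanceAs (IsLocalHom (f.stalkMap x).hom)
  haveI : IsScalarTower (Y.presheaf.stalk (f x)) (X.presheaf.stalk x) (F.presheaf.stalk x) :=
    IsScalarTower.of_algebraMap_smul fun _ _ => rfl
  haveI := M1.finite_stalk hF.1 hF.2 x
  haveI : Module.Flat (Y.presheaf.stalk (f x)) (F.presheaf.stalk x) := hfl x
  haveI : Nontrivial (F.presheaf.stalk x) := not_subsingleton_iff_nontrivial.mp hx
  haveI := RingHom.ker_isPrime (Cyc.specMap (f x) w hw)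
  obtain ⟨Q, hQ, hQp⟩ := exists_prime_over (S := X.presheaf.stalk x) (N := F.presheaf.stalk x)
    (RingHom.ker (Cyc.specMap (f x) w hw))
  let z := X.fromSpecStalk x Q
  have hz : z ⤳ x := by
    have : z ∈ Set.range (X.fromSpecStalk x) := ⟨Q, rfl⟩
    rwa [Scheme.range_fromSpecStalk] at this
  refine ⟨z, hz, ?_, ?_⟩
  · show (X.fromSpecStalk x ≫ f) Q = w
    rw [← Scheme.SpecMap_stalkMap_fromSpecStalk]
    have e : Spec.map (f.stalkMap x) Q =
        (⟨RingHom.ker (Cyc.specMap (f x) w hw), RingHom.ker_isPrime _⟩ : PrimeSpectrum _) :=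
      PrimeSpectrum.ext (show Q.asIdeal.comap (f.stalkMap x).hom = _ from hQp)
    exact Eq.trans (congrArg (Y.fromSpecStalk (f x)) e) (fromSpecStalk_ker hw)
  · have hQeq : Q = ⟨RingHom.ker (Cyc.specMap x z hz), RingHom.ker_isPrime _⟩ :=
      (X.fromSpecStalk x).isEmbedding.injective (fromSpecStalk_ker hz).symm
    rw [hQeq] at hQ
    exact not_subsingleton_iff_nontrivial.mpr ((Cyc26.mem_support_stalk_iff hF.1 hz).mp hQ)


theorem eq_of_specializes_of_closure_mem {x z : X} (hx : closure {x} ∈ irreducibleComponents X)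
    (hz : z ⤳ x) : z = x := by
  have h1 : closure {x} ⊆ closure {z} :=
    closure_minimal (Set.singleton_subset_iff.2 hz.mem_closure) isClosed_closure
  have h2 := hx.2 isIrreducible_singleton.closure h1
  exact (Specializes.antisymm hz (specializes_iff_mem_closure.2 (h2 (subset_closure rfl)))).eq

theorem closure_mem_of_forall_specializes {x : X} (hx : ∀ z, z ⤳ x → z = x) :
    closure {x} ∈ irreducibleComponents X := by
  obtain ⟨Z, hZ, hxZ⟩ := exists_mem_irreducibleComponents_subset_of_isIrreducible {x} isIrreducible_singleton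
  obtain ⟨g, hg⟩ := QuasiSober.sober hZ.1 (isClosed_of_mem_irreducibleComponents Z hZ)
  rw [← hx g (hg.specializes (hxZ rfl)), hg.def]
  exact hZ

end Groth.Agent.GoDown12
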