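import Groth.Agent.Lib.GoDown12.Basic
import Groth.Agent.Lib.GenLen5.Geom

/-! # Nonvanishing of fibres of quasi-coherent modules under base change -/

set_option autoImplicit false
set_option linter.style.haveILetI false
set_option backward.isDefEq.respectTransparency false
open CategoryTheory CategoryTheory.Limits AlgebraicGeometry
universe u

namespace Groth.Agent.GoDown12

open TensorProduct IsLocalRing

variable {X Y : Scheme.{u}}

/-- `F_x / m_y F_x ≠ 0` is the nonvanishing of the stalk of the restriction to the fibre. -/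
theorem nontrivial_fiber_iff (f : X ⟶ Y) (F : X.Modules) (y : Y) (v : f.fiber y) :
    Nontrivial (((Scheme.Modules.pullback (f.fiberι y)).obj F).presheaf.stalk v) ↔
      letI := FlatMod.moduleStalkOver f F (f.fiberι y v)
      maximalIdeal (Y.presheaf.stalk (f (f.fiberι y v))) •
        (⊤ : Submodule (Y.presheaf.stalk (f (f.fiberι y v))) (F.presheaf.stalk (f.fiberι y v))) ≠ ⊤ := by
  obtain ⟨h1, h2⟩ := GenLen5.stalkUnit_surjective_and_ker f F y v
  let x := f.fiberι y v
  letI := FlatMod.moduleStalkOver f F x
  let M : Type u := F.presheaf.stalk x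
  let u := M2.stalkUnit (f.fiberι y) v F
  have hsub : ∀ n : M, n ∈ GenLen5.fibIdeal f x • (⊤ : Submodule (X.presheaf.stalk x) M) ↔
      n ∈ maximalIdeal (Y.presheaf.stalk (f x)) • (⊤ : Submodule (Y.presheaf.stalk (f x)) M) := by
    intro n
    constructor
    · intro hn
      let P : Submodule (X.presheaf.stalk x) M :=
        { carrier := {m | m ∈ maximalIdeal (Y.presheaf.stalk (f x)) • (⊤ : Submodule (Y.presheaf.stalk (f x)) M)}
          add_mem' := fun {a b} ha hb => ((maximalIdeal (Y.presheaf.stalk (f x)) • (⊤ : Submodule (Y.presheaf.stalk (f x)) M)).add_mem ha hb :)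
          zero_mem' := (zero_mem (maximalIdeal (Y.presheaf.stalk (f x)) • (⊤ : Submodule (Y.presheaf.stalk (f x)) M)) :)
          smul_mem' := fun b m hm => by
            refine Submodule.smul_induction_on (p := fun m => b • m ∈ maximalIdeal (Y.presheaf.stalk (f x)) •
              (⊤ : Submodule (Y.presheaf.stalk (f x)) M)) hm (fun r hr m' _ => ?_) fun a c ha hc => ?_
            · have : b • (r • m' : M) = r • (b • m') := by
                show b • (f.stalkMap x r • m') = f.stalkMap x r • (b • m')
                rw [← mul_smul, ← mul_smul, mul_comm]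
              rw [this]
              exact Submodule.smul_mem_smul hr Submodule.mem_top
            · rw [smul_add]; exact add_mem ha hc }
      have hle : GenLen5.fibIdeal f x • (⊤ : Submodule (X.presheaf.stalk x) M) ≤ P := by
        rw [Submodule.smul_le]
        intro b hb m _
        induction hb using Submodule.span_induction with
        | mem c hc =>
          obtain ⟨r, hr, rfl⟩ := hc
          show f.stalkMap x r • m ∈ maximalIdeal (Y.presheaf.stalk (f x)) • (⊤ : Submodule (Y.presheaf.stalk (f x)) M)
          exact Submodule.smul_mem_smul hr Submodule.mem_top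
        | zero => rw [zero_smul]; exact zero_mem _
        | add a c _ _ ha hc => rw [add_smul]; exact add_mem ha hc
        | smul a c _ hc => rw [smul_assoc]; exact P.smul_mem a hc
      exact hle hn
    · intro hn
      refine Submodule.smul_induction_on hn (fun r hr m _ => ?_) fun a b ha hb => add_mem ha hb
      show f.stalkMap x r • m ∈ GenLen5.fibIdeal f x • (⊤ : Submodule (X.presheaf.stalk x) M)
      exact Submodule.smul_mem_smul (Ideal.mem_map_of_mem _ hr) Submodule.mem_top
  rw [← not_subsingleton_iff_nontrivial]
  refine not_congr ⟨fun hs => Submodule.eq_top_iff'.mpr fun n => (hsub n).mp ?_, fun h => ?_⟩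
  · rw [← h2]
    exact Subsingleton.elim (u n) 0
  · refine ⟨fun a b => ?_⟩
    obtain ⟨a, rfl⟩ := h1 a
    obtain ⟨b, rfl⟩ := h1 b
    rw [← sub_eq_zero, ← map_sub, ← LinearMap.mem_ker, h2]
    exact (hsub _).mpr (Submodule.eq_top_iff'.mp h (a - b))

/-- Pullback along a flat map keeps nonzero stalks nonzero. -/
theorem nontrivial_pullback_stalk {Z : Scheme.{u}} (φ : Z ⟶ X) [Flat φ] (G : X.Modules) (z : Z)
    [Nontrivial (G.presheaf.stalk (φ z))] :
    Nontrivial (((Scheme.Modules.pullback φ).obj G).presheaf.stalk z) := by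
  haveI : Module.Flat (X.presheaf.stalk (φ z)) (Z.presheaf.stalk z) := Flat.stalkMap φ z
  haveI : IsLocalHom (algebraMap (X.presheaf.stalk (φ z)) (Z.presheaf.stalk z)) :=
    inferInstanceAs (IsLocalHom (φ.stalkMap z).hom)
  haveI := Module.FaithfullyFlat.of_flat_of_isLocalHom (A := X.presheaf.stalk (φ z))
    (B := Z.presheaf.stalk z)
  haveI : Nontrivial (M2.BC φ z G) :=
    Module.FaithfullyFlat.lTensor_nontrivial (X.presheaf.stalk (φ z)) (Z.presheaf.stalk z)
      (G.presheaf.stalk (φ z))
  exact (M2.pullStalkEquiv φ z G).symm.toEquiv.nontrivial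

theorem exists_nontrivial_fiber_baseChange {Y' : Scheme.{u}} (f : X ⟶ Y) (g : Y' ⟶ Y) (F : X.Modules)
    (y' : Y') (v : f.fiber (g y'))
    [Nontrivial (((Scheme.Modules.pullback (f.fiberι (g y'))).obj F).presheaf.stalk v)] :
    ∃ v' : (pullback.snd f g).fiber y', Nontrivial (((Scheme.Modules.pullback ((pullback.snd f g).fiberι y')).obj
      ((Scheme.Modules.pullback (pullback.fst f g)).obj F)).presheaf.stalk v') := by
  have H := isPullback_fiberToSpecResidueField_of_isPullback (IsPullback.of_hasPullback f g) y'
  let φ : (pullback.snd f g).fiber y' ⟶ f.fiber (g y') :=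
    pullback.map _ _ _ _ (pullback.fst f g) (Spec.map (g.residueFieldMap y')) g
      (IsPullback.of_hasPullback f g).w.symm (by simp)
  haveI : Flat (Spec.map (g.residueFieldMap y')) := by
    rw [HasRingHomProperty.Spec_iff (P := @Flat)]
    letI : Algebra (Y.residueField (g y')) (Y'.residueField y') := (g.residueFieldMap y').hom.toAlgebra
    exact Module.Flat.of_free (R := Y.residueField (g y')) (M := Y'.residueField y')
  haveI : Surjective (Spec.map (g.residueFieldMap y')) := ⟨fun x =>
    ⟨closedPoint (Y'.residueField y'), Subsingleton.elim (α := PrimeSpectrum (Y.residueField (g y'))) _ _⟩⟩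
  haveI : Flat φ := MorphismProperty.of_isPullback (P := @Flat) H.flip inferInstance
  haveI : Surjective φ := MorphismProperty.of_isPullback (P := @Surjective) H.flip inferInstance
  obtain ⟨v', rfl⟩ := φ.surjective v
  refine ⟨v', ?_⟩
  have hv := nontrivial_pullback_stalk φ ((Scheme.Modules.pullback (f.fiberι (g y'))).obj F) v'
  have hcomm : φ ≫ f.fiberι (g y') = (pullback.snd f g).fiberι y' ≫ pullback.fst f g := by
    simp [φ, Scheme.Hom.fiberι]
  let e := (Scheme.Modules.pullbackComp φ (f.fiberι (g y'))).app F ≪≫
    eqToIso (by rw [hcomm]) ≪≫ ((Scheme.Modules.pullbackComp ((pullback.snd f g).fiberι y') (pullback.fst f g)).app F).symm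
  exact @Equiv.nontrivial _ _ ((M1.stalkAb v').mapIso e).addCommGroupIsoToAddEquiv.symm.toEquiv hv

end Groth.Agent.GoDown12
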