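import Groth.Agent.Lib.TensorMod.PullStalk
import Groth.Agent.Lib.TensorMod.Basic
import Groth.Prelude.Def_FlatMod2
import Mathlib.RingTheory.Flat.FaithfullyFlat.Basic

/-! # Flatness of `P ⊗ φ^* G` over a further base -/

set_option autoImplicit false
set_option linter.style.haveILetI false
open CategoryTheory AlgebraicGeometry TensorProduct IsLocalRing
universe u

namespace Groth.Agent.GoDown12

section Algebra

variable {C A P G : Type u} [CommRing C] [CommRing A] [Algebra C A] [AddCommGroup P] [Module A P]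
  [Module C P] [IsScalarTower C A P] [AddCommGroup G] [Module A G] [Module C G] [IsScalarTower C A G]

theorem lTensor_tensor_injective_iff {N N' : Type u} [AddCommGroup N] [AddCommGroup N'] [Module C N]
    [Module C N'] (l : N →ₗ[C] N') :
    Function.Injective (l.lTensor (P ⊗[A] G)) ↔
      Function.Injective ((AlgebraTensorModule.lTensor A G l).lTensor P) := by
  have h : (AlgebraTensorModule.assoc C A A P G N').toLinearMap.restrictScalars C ∘ₗ l.lTensor (P ⊗[A] G) =
      ((AlgebraTensorModule.lTensor A G l).lTensor P).restrictScalars C ∘ₗ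
        (AlgebraTensorModule.assoc C A A P G N).toLinearMap.restrictScalars C :=
    TensorProduct.ext' fun x n => by
      induction x using TensorProduct.induction_on with
      | zero => simp
      | add x y hx hy => rw [add_tmul, map_add, map_add, hx, hy]
      | tmul b m => simp
  rw [← Function.Injective.of_comp_iff (AlgebraTensorModule.assoc C A A P G N').injective,
    ← Function.Injective.of_comp_iff' ((AlgebraTensorModule.lTensor A G l).lTensor P)
      (AlgebraTensorModule.assoc C A A P G N).bijective]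
  exact iff_of_eq (congrArg Function.Injective (congrArg DFunLike.coe h))

theorem flat_tensor [Module.Flat A P] [Module.Flat C G] : Module.Flat C (P ⊗[A] G) := by
  rw [Module.Flat.iff_lTensor_preserves_injective_linearMap]
  intro N N' _ _ _ _ l hl
  rw [lTensor_tensor_injective_iff]
  exact Module.Flat.lTensor_preserves_injective_linearMap _
    (Module.Flat.lTensor_preserves_injective_linearMap (M := G) l hl)

theorem flat_of_flat_tensor [Module.FaithfullyFlat A P] [Module.Flat C (P ⊗[A] G)] : Module.Flat C G := by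
  rw [Module.Flat.iff_lTensor_preserves_injective_linearMap]
  intro N N' _ _ _ _ l hl
  have h := (lTensor_tensor_injective_iff (A := A) (P := P) (G := G) l).mp
    (Module.Flat.lTensor_preserves_injective_linearMap (M := P ⊗[A] G) l hl)
  exact (Module.FaithfullyFlat.lTensor_injective_iff_injective A P _).mp h

omit [Algebra C A] [IsScalarTower C A G] in
theorem smul_top_ne_top_iff (I : Ideal C) :
    I • (⊤ : Submodule C G) ≠ ⊤ ↔ Nontrivial (G ⊗[C] (C ⧸ I)) := by
  rw [(TensorProduct.tensorQuotEquivQuotSMul G I).toEquiv.nontrivial_congr, Submodule.Quotient.nontrivial_iff]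

theorem tensor_smul_top_ne_top [Module.FaithfullyFlat A P] (I : Ideal C)
    (h : I • (⊤ : Submodule C G) ≠ ⊤) : I • (⊤ : Submodule C (P ⊗[A] G)) ≠ ⊤ := by
  rw [smul_top_ne_top_iff] at h ⊢
  haveI := Module.FaithfullyFlat.lTensor_nontrivial A P (G ⊗[C] (C ⧸ I))
  exact (AlgebraTensorModule.assoc C A A P G (C ⧸ I)).toEquiv.nontrivial

theorem smul_top_ne_top_of_tensor (I : Ideal C)
    (h : I • (⊤ : Submodule C (P ⊗[A] G)) ≠ ⊤) : I • (⊤ : Submodule C G) ≠ ⊤ := by
  rw [smul_top_ne_top_iff] at h ⊢
  by_contra hs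
  rw [not_nontrivial_iff_subsingleton] at hs
  haveI := (AlgebraTensorModule.assoc C A A P G (C ⧸ I)).symm.toEquiv.nontrivial
  exact not_subsingleton (P ⊗[A] (G ⊗[C] (C ⧸ I))) inferInstance

end Algebra

theorem faithfullyFlat_of_smul_top_ne_top {A P : Type u} [CommRing A] [IsLocalRing A] [AddCommGroup P]
    [Module A P] [Module.Flat A P] (h : maximalIdeal A • (⊤ : Submodule A P) ≠ ⊤) :
    Module.FaithfullyFlat A P :=
  ⟨fun m hm => by rw [eq_maximalIdeal hm]; exact h⟩

variable {X Y Z : Scheme.{u}} (φ : X ⟶ Y) (h : Y ⟶ Z) (P : X.Modules) (G : Y.Modules) (x : X)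

/-- The tensor product of a module with a pullback. -/
noncomputable abbrev tensorPull : X.Modules :=
  CohB1.tensorMod P ((Scheme.Modules.pullback φ).obj G)

set_option backward.isDefEq.respectTransparency false in
set_option backward.isDefEq.respectTransparency.types false in
theorem tensorPull_tfae (hP : FlatMod.IsFlatOverAt φ P x) :
    (FlatMod.IsFlatOverAt h G (φ x) → FlatMod.IsFlatOverAt (φ ≫ h) (tensorPull φ P G) x) ∧
    ((letI := FlatMod.moduleStalkOver φ P x
      maximalIdeal (Y.presheaf.stalk (φ x)) • (⊤ : Submodule (Y.presheaf.stalk (φ x)) (P.presheaf.stalk x)) ≠ ⊤) →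
      (FlatMod.IsFlatOverAt (φ ≫ h) (tensorPull φ P G) x → FlatMod.IsFlatOverAt h G (φ x)) ∧
      ((letI := FlatMod.moduleStalkOver h G (φ x)
        maximalIdeal (Z.presheaf.stalk (h (φ x))) •
          (⊤ : Submodule (Z.presheaf.stalk (h (φ x))) (G.presheaf.stalk (φ x))) ≠ ⊤) →
        letI := FlatMod.moduleStalkOver (φ ≫ h) (tensorPull φ P G) x
        maximalIdeal (Z.presheaf.stalk ((φ ≫ h) x)) •
          (⊤ : Submodule (Z.presheaf.stalk ((φ ≫ h) x)) ((tensorPull φ P G).presheaf.stalk x)) ≠ ⊤)) ∧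
    ((letI := FlatMod.moduleStalkOver (φ ≫ h) (tensorPull φ P G) x
      maximalIdeal (Z.presheaf.stalk ((φ ≫ h) x)) •
        (⊤ : Submodule (Z.presheaf.stalk ((φ ≫ h) x)) ((tensorPull φ P G).presheaf.stalk x)) ≠ ⊤) →
      letI := FlatMod.moduleStalkOver h G (φ x)
      maximalIdeal (Z.presheaf.stalk (h (φ x))) •
        (⊤ : Submodule (Z.presheaf.stalk (h (φ x))) (G.presheaf.stalk (φ x))) ≠ ⊤) := by
  let C : Type u := Z.presheaf.stalk (h (φ x))
  letI : Algebra C (Y.presheaf.stalk (φ x)) := (h.stalkMap (φ x)).hom.toAlgebra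
  letI : Algebra C (X.presheaf.stalk x) := ((φ ≫ h).stalkMap x).hom.toAlgebra
  letI : Algebra (Y.presheaf.stalk (φ x)) (X.presheaf.stalk x) := (φ.stalkMap x).hom.toAlgebra
  haveI : IsScalarTower C (Y.presheaf.stalk (φ x)) (X.presheaf.stalk x) :=
    IsScalarTower.of_algebraMap_eq fun a => congr($(Scheme.Hom.stalkMap_comp φ h x) a)
  letI : Module C (G.presheaf.stalk (φ x)) := FlatMod.moduleStalkOver h G (φ x)
  haveI : IsScalarTower C (Y.presheaf.stalk (φ x)) (G.presheaf.stalk (φ x)) :=
    IsScalarTower.of_algebraMap_smul fun _ _ => rfl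
  letI : Module (Y.presheaf.stalk (φ x)) (P.presheaf.stalk x) := FlatMod.moduleStalkOver φ P x
  haveI : IsScalarTower (Y.presheaf.stalk (φ x)) (X.presheaf.stalk x) (P.presheaf.stalk x) :=
    IsScalarTower.of_algebraMap_smul fun _ _ => rfl
  letI : Module C (P.presheaf.stalk x) := FlatMod.moduleStalkOver (φ ≫ h) P x
  haveI : IsScalarTower C (X.presheaf.stalk x) (P.presheaf.stalk x) :=
    IsScalarTower.of_algebraMap_smul fun _ _ => rfl
  haveI : IsScalarTower C (Y.presheaf.stalk (φ x)) (P.presheaf.stalk x) :=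
    IsScalarTower.of_algebraMap_smul fun r m => by
      rw [← algebraMap_smul (X.presheaf.stalk x) (algebraMap C (Y.presheaf.stalk (φ x)) r) m,
        ← IsScalarTower.algebraMap_apply, algebraMap_smul]
  let T := tensorPull φ P G
  letI : Module C (T.presheaf.stalk x) := FlatMod.moduleStalkOver (φ ≫ h) T x
  haveI : IsScalarTower C (X.presheaf.stalk x) (T.presheaf.stalk x) :=
    IsScalarTower.of_algebraMap_smul fun _ _ => rfl
  let Q := (Scheme.Modules.pullback φ).obj G
  let e0 : (X.presheaf.stalk x ⊗[Y.presheaf.stalk (φ x)] G.presheaf.stalk (φ x)) ≃ₗ[X.presheaf.stalk x]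
      Q.presheaf.stalk x := M2.pullStalkEquiv φ x G
  let E : T.presheaf.stalk x ≃ₗ[X.presheaf.stalk x]
      (P.presheaf.stalk x : Type u) ⊗[Y.presheaf.stalk (φ x)] (G.presheaf.stalk (φ x) : Type u) :=
    (M2.stalkEquiv P Q x).trans ((TensorProduct.congr (LinearEquiv.refl _ _) e0.symm).trans
      (TensorProduct.AlgebraTensorModule.cancelBaseChange (Y.presheaf.stalk (φ x)) (X.presheaf.stalk x)
        (X.presheaf.stalk x) (P.presheaf.stalk x) (G.presheaf.stalk (φ x))))
  let EC := E.restrictScalars C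
  haveI : Module.Flat (Y.presheaf.stalk (φ x)) (P.presheaf.stalk x) := hP
  have hne : ∀ I : Ideal C, I • (⊤ : Submodule C (T.presheaf.stalk x)) ≠ ⊤ ↔
      I • (⊤ : Submodule C ((P.presheaf.stalk x : Type u) ⊗[Y.presheaf.stalk (φ x)]
        (G.presheaf.stalk (φ x) : Type u))) ≠ ⊤ := fun I => by
    rw [smul_top_ne_top_iff, smul_top_ne_top_iff]
    exact (TensorProduct.congr EC (LinearEquiv.refl _ _)).toEquiv.nontrivial_congr
  refine ⟨fun hG => ?_, fun hPne => ?_, fun hT => ?_⟩
  · haveI : Module.Flat C (G.presheaf.stalk (φ x)) := hG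
    haveI : Module.Flat C ((P.presheaf.stalk x : Type u) ⊗[Y.presheaf.stalk (φ x)]
      (G.presheaf.stalk (φ x) : Type u)) := flat_tensor
    exact (Module.Flat.of_linearEquiv EC : Module.Flat C (T.presheaf.stalk x))
  · haveI := faithfullyFlat_of_smul_top_ne_top (A := Y.presheaf.stalk (φ x)) (P := P.presheaf.stalk x) hPne
    refine ⟨fun hT => ?_, fun hG => (hne (maximalIdeal C)).mpr (tensor_smul_top_ne_top (C := C) (A := Y.presheaf.stalk (φ x))
      (P := P.presheaf.stalk x) (maximalIdeal C) hG)⟩
    haveI : Module.Flat C (T.presheaf.stalk x) := hT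
    haveI := Module.Flat.of_linearEquiv EC.symm
    exact flat_of_flat_tensor (A := Y.presheaf.stalk (φ x)) (P := P.presheaf.stalk x)
  · exact smul_top_ne_top_of_tensor (C := C) (A := Y.presheaf.stalk (φ x)) (P := P.presheaf.stalk x)
      (maximalIdeal C) ((hne (maximalIdeal C)).mp hT)

end Groth.Agent.GoDown12
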